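import Groth.Prelude.Def_RDerDelta
import Mathlib.Algebra.Homology.ShortComplex.Limits
import Mathlib.Algebra.Homology.ShortComplex.Abelian
import Mathlib.Algebra.Homology.ShortComplex.SnakeLemma
import Mathlib.CategoryTheory.Abelian.Injective.Resolution

/-!
The horseshoe lemma: short exact sequences have injective resolutions.
-/

set_option autoImplicit false

universe v u

open CategoryTheory CategoryTheory.Limits

namespace Groth.Agent.Horseshoe

variable {C : Type u} [Category.{v} C] [Abelian C] [EnoughInjectives C]

/-- a short exact sequence, bundled -/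
structure SES (C : Type u) [Category.{v} C] [Abelian C] where
  /-- the sequence -/
  S : ShortComplex C
  /-- it is short exact -/
  hS : S.ShortExact

variable (K : SES C)

/-- the split sequence of injectives receiving a short exact sequence -/
noncomputable def target : ShortComplex C :=
  ShortComplex.mk (biprod.inl : Injective.under K.S.X₁ ⟶ Injective.under K.S.X₁ ⊞ Injective.under K.S.X₃)
    biprod.snd biprod.inl_snd

omit K in
theorem shortExact_target (K : SES C) : (target K).ShortExact :=
  (ShortComplex.Splitting.ofHasBinaryBiproduct (Injective.under K.S.X₁) (Injective.under K.S.X₃)).shortExact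

/-- the middle component of the embedding -/
noncomputable def emb₂ : K.S.X₂ ⟶ Injective.under K.S.X₁ ⊞ Injective.under K.S.X₃ :=
  haveI := K.hS.mono_f
  biprod.lift (Injective.factorThru (Injective.ι K.S.X₁) K.S.f) (K.S.g ≫ Injective.ι K.S.X₃)

/-- the embedding -/
noncomputable def emb : K.S ⟶ target K where
  τ₁ := Injective.ι K.S.X₁
  τ₂ := emb₂ K
  τ₃ := Injective.ι K.S.X₃
  comm₁₂ := by
    haveI := K.hS.mono_f
    apply biprod.hom_ext
    · simp [target, emb₂]
    · simp [target, emb₂]
  comm₂₃ := by simp [target, emb₂]

instance mono_emb : Mono (emb K) := by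
  haveI : Mono (emb K).τ₁ := inferInstanceAs (Mono (Injective.ι K.S.X₁))
  haveI : Mono (emb K).τ₃ := inferInstanceAs (Mono (Injective.ι K.S.X₃))
  haveI := K.hS.mono_f
  haveI := (shortExact_target K).mono_f
  haveI : Mono (emb K).τ₂ := ShortComplex.mono_τ₂_of_exact_of_mono (emb K) K.hS.exact
  refine ⟨fun g h eq => ?_⟩
  ext
  · exact (cancel_mono (emb K).τ₁).1 (congrArg ShortComplex.Hom.τ₁ eq)
  · exact (cancel_mono (emb K).τ₂).1 (congrArg ShortComplex.Hom.τ₂ eq)
  · exact (cancel_mono (emb K).τ₃).1 (congrArg ShortComplex.Hom.τ₃ eq)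

/-- the snake of the embedding -/
noncomputable def snake : ShortComplex.SnakeInput C where
  L₀ := kernel (emb K)
  L₁ := K.S
  L₂ := target K
  L₃ := cokernel (emb K)
  v₀₁ := kernel.ι _
  v₁₂ := emb K
  v₂₃ := cokernel.π _
  w₀₂ := kernel.condition _
  w₁₃ := cokernel.condition _
  h₀ := kernelIsKernel _
  h₃ := cokernelIsCokernel _
  L₁_exact := K.hS.exact
  epi_L₁_g := K.hS.epi_g
  L₂_exact := (shortExact_target K).exact
  mono_L₂_f := (shortExact_target K).mono_f

theorem shortExact_coker : (cokernel (emb K)).ShortExact := by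
  haveI : Epi (snake K).L₂.g := (shortExact_target K).epi_g
  have hz : IsZero (snake K).L₀.X₃ := (ShortComplex.π₃ : ShortComplex C ⥤ C).map_isZero (isZero_kernel_of_mono (emb K))
  have hm : Mono (snake K).L₃.f :=
    (ShortComplex.exact_iff_mono _ (hz.eq_of_src _ _)).1 (snake K).L₂'_exact
  exact ShortComplex.ShortExact.mk' (snake K).L₃_exact hm (inferInstanceAs (Epi (snake K).L₃.g))

/-- the next sequence of syzygies -/
noncomputable def next : SES C := ⟨cokernel (emb K), shortExact_coker K⟩

/-- the iterated syzygies -/
noncomputable def syz : ℕ → SES C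
  | 0 => K
  | n + 1 => next (syz n)

/-- the differential -/
noncomputable def dd (n : ℕ) : target (syz K n) ⟶ target (syz K (n + 1)) :=
  cokernel.π (emb (syz K n)) ≫ emb (syz K (n + 1))

theorem dd_comp (n : ℕ) : dd K n ≫ dd K (n + 1) = 0 := by
  unfold dd
  rw [Category.assoc]
  erw [cokernel.condition_assoc]
  rw [zero_comp, comp_zero]

section component

variable (π : ShortComplex C ⥤ C) [π.Additive] [PreservesFiniteLimits π] [PreservesFiniteColimits π]

/-- a component of the resolution -/
noncomputable def cx : CochainComplex C ℕ :=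
  CochainComplex.of (fun n => π.obj (target (syz K n))) (fun n => π.map (dd K n)) fun n => by
    rw [← π.map_comp, dd_comp, π.map_zero]

theorem cx_d (n : ℕ) : (cx K π).d n (n + 1) = π.map (dd K n) :=
  CochainComplex.of_d (fun n => π.obj (target (syz K n))) (fun n => π.map (dd K n)) n

theorem exact_pair (n : ℕ) :
    (ShortComplex.mk (π.map (emb (syz K n))) (π.map (dd K n))
      (by rw [← π.map_comp, dd, cokernel.condition_assoc, zero_comp, π.map_zero])).Exact := by
  let α : ShortComplex.mk (π.map (emb (syz K n))) (π.map (cokernel.π (emb (syz K n))))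
      (by rw [← π.map_comp, cokernel.condition, π.map_zero]) ⟶
    ShortComplex.mk (π.map (emb (syz K n))) (π.map (dd K n))
      (by rw [← π.map_comp, dd, cokernel.condition_assoc, zero_comp, π.map_zero]) :=
    { τ₁ := 𝟙 _
      τ₂ := 𝟙 _
      τ₃ := π.map (emb (syz K (n + 1)))
      comm₁₂ := by simp
      comm₂₃ := by
        show 𝟙 _ ≫ π.map (dd K n) = _ ≫ _
        rw [Category.id_comp, ← π.map_comp]
        rfl }
  haveI : Mono α.τ₃ := inferInstanceAs (Mono (π.map (emb (syz K (n + 1)))))
  rw [← ShortComplex.exact_iff_of_epi_of_isIso_of_mono α]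
  exact (ShortComplex.exact_cokernel (emb (syz K n))).map π

theorem exactAt_succ (n : ℕ) : (cx K π).ExactAt (n + 1) := by
  rw [HomologicalComplex.exactAt_iff' _ n (n + 1) (n + 1 + 1) (by simp) (by simp)]
  haveI : Epi (π.map (cokernel.π (emb (syz K n)))) := inferInstance
  let α : ShortComplex.mk (π.map (dd K n)) (π.map (dd K (n + 1))) (by rw [← π.map_comp, dd_comp, π.map_zero]) ⟶
      ShortComplex.mk (π.map (emb (syz K (n + 1)))) (π.map (dd K (n + 1)))
        (by rw [← π.map_comp, dd, cokernel.condition_assoc, zero_comp, π.map_zero]) :=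
    { τ₁ := π.map (cokernel.π (emb (syz K n)))
      τ₂ := 𝟙 _
      τ₃ := 𝟙 _
      comm₁₂ := by
        show _ ≫ _ = π.map (dd K n) ≫ 𝟙 _
        rw [Category.comp_id, ← π.map_comp]
        rfl
      comm₂₃ := (Category.id_comp _).trans (Category.comp_id _).symm }
  haveI : Epi α.τ₁ := inferInstanceAs (Epi (π.map (cokernel.π (emb (syz K n)))))
  have h := (ShortComplex.exact_iff_of_epi_of_isIso_of_mono α).2 (exact_pair K π (n + 1))
  refine (ShortComplex.exact_iff_of_iso ?_).2 h
  exact ShortComplex.isoMk (Iso.refl _) (Iso.refl _) (Iso.refl _)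
    (by show 𝟙 _ ≫ π.map (dd K n) = (cx K π).d n (n + 1) ≫ 𝟙 _
        rw [cx_d]; exact (Category.id_comp _).trans (Category.comp_id _).symm)
    (by show 𝟙 _ ≫ π.map (dd K (n + 1)) = (cx K π).d (n + 1) (n + 1 + 1) ≫ 𝟙 _
        rw [cx_d]; exact (Category.id_comp _).trans (Category.comp_id _).symm)

variable (hinj : ∀ L : SES C, Injective (π.obj (target L)))

/-- a component of the resolution, as an injective resolution -/
noncomputable def res : InjectiveResolution (π.obj K.S) where
  cocomplex := cx K π
  injective n := hinj (syz K n)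
  ι := (CochainComplex.fromSingle₀Equiv _ _).symm ⟨π.map (emb K), by
    rw [cx_d]
    exact (π.map_comp _ _).symm.trans ((congrArg π.map (by rw [dd]; exact cokernel.condition_assoc _ _ |>.trans zero_comp)).trans (π.map_zero _ _))⟩
  quasiIso := ⟨fun n => by
    cases n
    · rw [CochainComplex.quasiIsoAt₀_iff, ShortComplex.quasiIso_iff_of_zeros]
      · haveI : Mono (π.map (emb K)) := inferInstance
        refine (ShortComplex.exact_and_mono_f_iff_of_iso ?_).2 ⟨exact_pair K π 0, inferInstanceAs (Mono (π.map (emb K)))⟩
        exact ShortComplex.isoMk (Iso.refl _) (Iso.refl _) (Iso.refl _) (by simp; exact (Category.id_comp _).trans (Category.comp_id _).symm)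
          (by simp [cx_d]; exact (Category.id_comp _).trans (Category.comp_id _).symm)
      all_goals rfl
    · rw [quasiIsoAt_iff_exactAt]
      · apply exactAt_succ
      · apply CochainComplex.exactAt_succ_single_obj⟩

end component

instance : (ShortComplex.π₁ : ShortComplex C ⥤ C).Additive where
instance : (ShortComplex.π₂ : ShortComplex C ⥤ C).Additive where
instance : (ShortComplex.π₃ : ShortComplex C ⥤ C).Additive where

/-- the map between the first two components -/
noncomputable def mapF : cx K ShortComplex.π₁ ⟶ cx K ShortComplex.π₂ :=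
  CochainComplex.ofHom (fun n => (target (syz K n)).f) fun n => by
    rw [cx_d, cx_d]
    exact (dd K n).comm₁₂.symm

/-- the map between the last two components -/
noncomputable def mapG : cx K ShortComplex.π₂ ⟶ cx K ShortComplex.π₃ :=
  CochainComplex.ofHom (fun n => (target (syz K n)).g) fun n => by
    rw [cx_d, cx_d]
    exact (dd K n).comm₂₃.symm

/-- every short exact sequence has an injective resolution -/
theorem nonempty_sesRes (S : ShortComplex C) (hS : S.ShortExact) : Nonempty (RDer.SESRes S) := by
  let K : SES C := ⟨S, hS⟩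
  refine ⟨{
    I₁ := res K ShortComplex.π₁ (fun L => Injective.injective_under L.S.X₁)
    I₂ := res K ShortComplex.π₂ (fun L => inferInstanceAs (Injective (Injective.under L.S.X₁ ⊞ Injective.under L.S.X₃)))
    I₃ := res K ShortComplex.π₃ (fun L => Injective.injective_under L.S.X₃)
    f := mapF K
    g := mapG K
    zero := ?_
    ι_f := ?_
    ι_g := ?_
    shortExact := ?_ }⟩
  · ext n : 1
    exact (target (syz K n)).zero
  · apply HomologicalComplex.from_single_hom_ext
    simp only [HomologicalComplex.comp_f]
    simp [res, mapF]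
    exact (emb K).comm₁₂
  · apply HomologicalComplex.from_single_hom_ext
    simp only [HomologicalComplex.comp_f]
    simp [res, mapG]
    exact (emb K).comm₂₃
  · exact HomologicalComplex.shortExact_of_degreewise_shortExact _ fun n => shortExact_target (syz K n)

end Groth.Agent.Horseshoe
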