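import Groth.Prelude.Def_RDerDelta
import Mathlib.Algebra.Homology.HomologySequenceLemmas
import Mathlib.CategoryTheory.Abelian.Injective.Resolution
import Mathlib.CategoryTheory.Abelian.RightDerived

/-!
Morphisms of short exact sequences lift to morphisms of their injective resolutions.
-/

set_option autoImplicit false

universe v v' u u'

open CategoryTheory CategoryTheory.Limits

namespace Groth.Agent.Horseshoe

variable {C : Type u} [Category.{v} C] [Abelian C] {S S' : ShortComplex C}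

theorem ι_f_zero {X Y : C} {I : InjectiveResolution X} {J : InjectiveResolution Y} {f : X ⟶ Y}
    {a : I.cocomplex ⟶ J.cocomplex} (h : I.ι ≫ a = (CochainComplex.single₀ C).map f ≫ J.ι) :
    I.ι.f 0 ≫ a.f 0 = f ≫ J.ι.f 0 := by
  refine (HomologicalComplex.congr_hom h 0).trans ?_
  show ((CochainComplex.single₀ C).map f).f 0 ≫ J.ι.f 0 = _
  rw [CochainComplex.single₀_map_f_zero]
  rfl

theorem exists_lift (T : RDer.SESRes S) (T' : RDer.SESRes S') (φ : S ⟶ S') (hS : Epi S.g) :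
    ∃ Φ : T.cx ⟶ T'.cx, T.I₁.ι.f 0 ≫ Φ.τ₁.f 0 = φ.τ₁ ≫ T'.I₁.ι.f 0 ∧
      T.I₃.ι.f 0 ≫ Φ.τ₃.f 0 = φ.τ₃ ≫ T'.I₃.ι.f 0 := by
  let a₁ := InjectiveResolution.desc φ.τ₁ T'.I₁ T.I₁
  let b₂ := InjectiveResolution.desc φ.τ₂ T'.I₂ T.I₂
  have h₁ : T.I₁.ι ≫ a₁ = (CochainComplex.single₀ C).map φ.τ₁ ≫ T'.I₁.ι := InjectiveResolution.desc_commutes _ _ _
  have h₂ : T.I₂.ι ≫ b₂ = (CochainComplex.single₀ C).map φ.τ₂ ≫ T'.I₂.ι := InjectiveResolution.desc_commutes _ _ _
  have hl : T.I₁.ι ≫ T.f ≫ b₂ = (CochainComplex.single₀ C).map (S.f ≫ φ.τ₂) ≫ T'.I₂.ι := by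
    rw [reassoc_of% T.ι_f, h₂, Functor.map_comp, Category.assoc]
  have hr : T.I₁.ι ≫ a₁ ≫ T'.f = (CochainComplex.single₀ C).map (S.f ≫ φ.τ₂) ≫ T'.I₂.ι := by
    rw [reassoc_of% h₁, T'.ι_f, ← φ.comm₁₂, Functor.map_comp, Category.assoc]
  let s := InjectiveResolution.descHomotopy (S.f ≫ φ.τ₂) (T.f ≫ b₂) (a₁ ≫ T'.f) hl hr
  haveI : ∀ i, Mono (T.f.f i) := fun i => by
    haveI := (T.shortExact.map_of_exact (HomologicalComplex.eval C (ComplexShape.up ℕ) i)).mono_f
    exact inferInstanceAs (Mono (T.cx.map (HomologicalComplex.eval C (ComplexShape.up ℕ) i)).f)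
  let h : ∀ i j, T.I₂.cocomplex.X i ⟶ T'.I₂.cocomplex.X j := fun i j => Injective.factorThru (s.hom i j) (T.f.f i)
  let a₂ := b₂ - Homotopy.nullHomotopicMap h
  have hfa : T.f ≫ a₂ = a₁ ≫ T'.f := by
    have h0 : T.f ≫ Homotopy.nullHomotopicMap h = T.f ≫ b₂ - a₁ ≫ T'.f := by
      rw [Homotopy.comp_nullHomotopicMap]
      ext n : 1
      have := s.comm n
      simp only [Injective.comp_factorThru, h]
      rw [HomologicalComplex.sub_f_apply, this, add_sub_cancel_right]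
      rfl
    rw [Preadditive.comp_sub, h0, sub_sub_cancel]
  have h0a : T.I₂.ι ≫ Homotopy.nullHomotopicMap h = 0 := by
    rw [Homotopy.comp_nullHomotopicMap]
    ext : 1
    simp [Homotopy.nullHomotopicMap, dNext, prevD]
    rfl
  have h₂' : T.I₂.ι ≫ a₂ = (CochainComplex.single₀ C).map φ.τ₂ ≫ T'.I₂.ι := by
    rw [Preadditive.comp_sub, h0a, sub_zero, h₂]
  haveI := T.shortExact.epi_g
  have hw : T.f ≫ a₂ ≫ T'.g = 0 := by rw [reassoc_of% hfa, T'.zero, comp_zero]
  let a₃ : T.I₃.cocomplex ⟶ T'.I₃.cocomplex := T.shortExact.exact.desc (a₂ ≫ T'.g) hw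
  have hga : T.g ≫ a₃ = a₂ ≫ T'.g := T.shortExact.exact.g_desc _ _
  have h₃ : T.I₃.ι ≫ a₃ = (CochainComplex.single₀ C).map φ.τ₃ ≫ T'.I₃.ι := by
    haveI := hS
    haveI : Epi ((CochainComplex.single₀ C).map S.g) := inferInstance
    rw [← cancel_epi ((CochainComplex.single₀ C).map S.g), ← Category.assoc, ← T.ι_g, Category.assoc, hga,
      reassoc_of% h₂', T'.ι_g, ← Category.assoc, ← Category.assoc, ← Functor.map_comp, ← Functor.map_comp, φ.comm₂₃]
  exact ⟨{ τ₁ := a₁, τ₂ := a₂, τ₃ := a₃, comm₁₂ := hfa.symm, comm₂₃ := hga.symm },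
    ι_f_zero h₁, ι_f_zero h₃⟩

variable [HasInjectiveResolutions C] {D : Type u'} [Category.{v'} D] [Abelian D] (F : C ⥤ D) [F.Additive]

theorem delta_natural (T : RDer.SESRes S) (T' : RDer.SESRes S') (φ : S ⟶ S') (hS : Epi S.g)
    (n₀ n₁ : ℕ) (h : n₀ + 1 = n₁) :
    (F.rightDerived n₀).map φ.τ₃ ≫ T'.delta F n₀ n₁ h = T.delta F n₀ n₁ h ≫ (F.rightDerived n₁).map φ.τ₁ := by
  obtain ⟨Φ, c₁, c₃⟩ := exists_lift T T' φ hS
  rw [← cancel_mono (T'.I₁.isoRightDerivedObj F n₁).hom, Category.assoc, Category.assoc,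
    T'.delta_comp_isoRightDerivedObj_hom, InjectiveResolution.isoRightDerivedObj_hom_naturality φ.τ₁ T.I₁ T'.I₁ Φ.τ₁ c₁,
    T.delta_comp_isoRightDerivedObj_hom_assoc]
  erw [InjectiveResolution.isoRightDerivedObj_hom_naturality_assoc φ.τ₃ T.I₃ T'.I₃ Φ.τ₃ c₃]
  refine Eq.trans ?_ (Category.assoc _ _ _).symm
  exact congrArg ((T.I₃.isoRightDerivedObj F n₀).hom ≫ ·)
    (HomologicalComplex.HomologySequence.δ_naturality ((F.mapHomologicalComplex (ComplexShape.up ℕ)).mapShortComplex.map Φ)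
      (T.map_shortExact F) (T'.map_shortExact F) n₀ n₁ h).symm

theorem delta_eq_delta (T T' : RDer.SESRes S) (hS : Epi S.g) (n₀ n₁ : ℕ) (h : n₀ + 1 = n₁) :
    T.delta F n₀ n₁ h = T'.delta F n₀ n₁ h := by
  have := delta_natural F T T' (𝟙 S) hS n₀ n₁ h
  simpa using this.symm

end Groth.Agent.Horseshoe

namespace Groth.Agent.Horseshoe

variable {C : Type u} [Category.{v} C] [Abelian C] {S : ShortComplex C}

theorem epi_g_of_sesRes (T : RDer.SESRes S) : Epi S.g := by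
  have hz : IsZero (T.cx.X₁.homology 1) :=
    (HomologicalComplex.exactAt_iff_isZero_homology _ _).1 (T.I₁.cocomplex_exactAt_succ 0)
  haveI : Epi (HomologicalComplex.homologyMap T.g 0) :=
    (ShortComplex.exact_iff_epi _ (hz.eq_of_tgt _ _)).1 (T.shortExact.homology_exact₃ 0 1 rfl)
  haveI : IsIso (HomologicalComplex.homologyMap T.I₂.ι 0) :=
    (quasiIsoAt_iff_isIso_homologyMap _ _).1 inferInstance
  haveI : IsIso (HomologicalComplex.homologyMap T.I₃.ι 0) :=
    (quasiIsoAt_iff_isIso_homologyMap _ _).1 inferInstance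
  have h := congrArg (fun t => HomologicalComplex.homologyMap t 0) T.ι_g
  simp only [HomologicalComplex.homologyMap_comp] at h
  haveI h' : Epi (HomologicalComplex.homologyMap T.I₂.ι 0 ≫ HomologicalComplex.homologyMap T.g 0) := epi_comp _ _
  rw [h] at h'
  haveI : Epi (HomologicalComplex.homologyMap ((CochainComplex.single₀ C).map S.g) 0) := by
    have h2 : Epi ((HomologicalComplex.homologyMap ((CochainComplex.single₀ C).map S.g) 0 ≫
        HomologicalComplex.homologyMap T.I₃.ι 0) ≫ inv (HomologicalComplex.homologyMap T.I₃.ι 0)) :=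
      @epi_comp _ _ _ _ _ _ h' _ inferInstance
    simpa using h2
  have hn : HomologicalComplex.homologyMap ((CochainComplex.single₀ C).map S.g) 0 ≫
      (HomologicalComplex.singleObjHomologySelfIso (ComplexShape.up ℕ) 0 S.X₃).hom =
    (HomologicalComplex.singleObjHomologySelfIso (ComplexShape.up ℕ) 0 S.X₂).hom ≫ S.g := by
    exact HomologicalComplex.singleObjHomologySelfIso_hom_naturality (ComplexShape.up ℕ) 0 S.g
  haveI h3 : Epi ((HomologicalComplex.singleObjHomologySelfIso (ComplexShape.up ℕ) 0 S.X₂).hom ≫ S.g) :=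
    hn ▸ epi_comp _ _
  exact epi_of_epi (HomologicalComplex.singleObjHomologySelfIso (ComplexShape.up ℕ) 0 S.X₂).hom S.g

end Groth.Agent.Horseshoe
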